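import Mathlib

/-!
# Rational exponential sums of cyclotomic rational functions are Laurent polynomials
-/

set_option autoImplicit false

namespace ExpSum97

open Polynomial

/-- `∏ (X^(n+1) - 1)`. -/
noncomputable def cyc (s : Multiset ℕ) : ℚ[X] :=
  (s.map fun n => (X : ℚ[X]) ^ (n + 1) - 1).prod

theorem cyc_ne_zero (s : Multiset ℕ) : cyc s ≠ 0 := by
  refine Multiset.prod_ne_zero ?_
  rw [Multiset.mem_map]
  rintro ⟨n, -, hn⟩
  exact X_pow_sub_C_ne_zero (Nat.succ_pos n) (1 : ℚ) (by rw [C_1]; exact hn)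

theorem cyc_eval_ne_zero (s : Multiset ℕ) {x : ℚ} (hx : 1 < x) : (cyc s).eval x ≠ 0 := by
  rw [cyc, eval_multiset_prod, Multiset.map_map]
  refine Multiset.prod_ne_zero ?_
  rw [Multiset.mem_map]
  rintro ⟨n, -, hn⟩
  simp only [Function.comp_apply, eval_sub, eval_pow, eval_X, eval_one, sub_eq_zero] at hn
  exact absurd hn (one_lt_pow₀ hx (Nat.succ_ne_zero n)).ne'

/-- `F = P / (X^a · ∏ (X^n - 1))`. -/
def Good (F : RatFunc ℚ) : Prop :=
  ∃ (P : ℚ[X]) (a : ℕ) (s : Multiset ℕ),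
    F * algebraMap ℚ[X] (RatFunc ℚ) (X ^ a * cyc s) = algebraMap ℚ[X] (RatFunc ℚ) P

theorem good_of_mem {F : RatFunc ℚ}
    (hF : F ∈ Subring.closure
      (({RatFunc.X, (RatFunc.X : RatFunc ℚ)⁻¹} : Set (RatFunc ℚ)) ∪
        Set.range fun n : ℕ => ((RatFunc.X : RatFunc ℚ) ^ (n + 1) - 1)⁻¹)) : Good F := by
  induction hF using Subring.closure_induction with
  | mem x hx =>
    rcases hx with (rfl | rfl) | ⟨n, rfl⟩
    · exact ⟨X, 0, 0, by simp [cyc]⟩
    · refine ⟨1, 1, 0, ?_⟩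
      simp only [cyc, Multiset.map_zero, Multiset.prod_zero, mul_one, pow_one, map_one,
        RatFunc.algebraMap_X]
      exact inv_mul_cancel₀ RatFunc.X_ne_zero
    · refine ⟨1, 0, {n}, ?_⟩
      simp only [cyc, Multiset.map_singleton, Multiset.prod_singleton, pow_zero, one_mul, map_sub,
        map_pow, map_one, RatFunc.algebraMap_X]
      refine inv_mul_cancel₀ ?_
      intro h
      have h' : algebraMap ℚ[X] (RatFunc ℚ) (X ^ (n + 1) - 1) = algebraMap ℚ[X] (RatFunc ℚ) 0 := by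
        simpa using h
      exact X_pow_sub_C_ne_zero (Nat.succ_pos n) (1 : ℚ) (by
        rw [C_1]; exact RatFunc.algebraMap_injective ℚ h')
  | zero => exact ⟨0, 0, 0, by simp⟩
  | one => exact ⟨1, 0, 0, by simp [cyc]⟩
  | add x y _ _ hx hy =>
    obtain ⟨P, a, s, hP⟩ := hx
    obtain ⟨P', a', s', hP'⟩ := hy
    refine ⟨P * (X ^ a' * cyc s') + P' * (X ^ a * cyc s), a + a', s + s', ?_⟩
    simp only [cyc, Multiset.map_add, Multiset.prod_add, map_add, map_mul, map_pow, pow_add] at *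
    rw [← hP, ← hP']; ring
  | neg x _ hx =>
    obtain ⟨P, a, s, hP⟩ := hx
    exact ⟨-P, a, s, by rw [map_neg, ← hP, neg_mul]⟩
  | mul x y _ _ hx hy =>
    obtain ⟨P, a, s, hP⟩ := hx
    obtain ⟨P', a', s', hP'⟩ := hy
    refine ⟨P * P', a + a', s + s', ?_⟩
    simp only [cyc, Multiset.map_add, Multiset.prod_add, map_add, map_mul, map_pow, pow_add] at *
    rw [← hP, ← hP']; ring

theorem eval_eq {F : RatFunc ℚ} {P D : ℚ[X]}
    (h : F * algebraMap ℚ[X] (RatFunc ℚ) D = algebraMap ℚ[X] (RatFunc ℚ) P) {x : ℚ}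
    (hD : D.eval x ≠ 0) : F.eval (RingHom.id ℚ) x * D.eval x = P.eval x := by
  have hD0 : D ≠ 0 := fun h => hD (by simp [h])
  have hF : F = algebraMap _ _ P / algebraMap _ _ D :=
    (eq_div_iff (RatFunc.algebraMap_ne_zero hD0)).mpr h
  obtain ⟨c, hc⟩ := (RatFunc.denom_dvd hD0).mpr ⟨P, hF⟩
  have hden : F.denom.eval x ≠ 0 := fun h0 => hD (by rw [hc, eval_mul, h0, zero_mul])
  have hnum := (RatFunc.num_mul_eq_mul_denom_iff hD0).mpr hF
  rw [RatFunc.eval, eval₂_id, eval₂_id, div_mul_eq_mul_div, div_eq_iff hden, ← eval_mul, ← eval_mul,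
    hnum]

theorem isCoprime_scaled (s : Multiset ℕ) (c d : ℚ) (hc : 0 < c) (hd : 0 < d) (hcd : c ≠ d) :
    IsCoprime ((cyc s).comp (C c * X)) ((cyc s).comp (C d * X)) := by
  refine (Polynomial.isCoprime_iff_aeval_ne_zero_of_isAlgClosed (k := ℚ) ℂ _ _).mpr fun z => ?_
  rw [← not_and_or]
  rintro ⟨h1, h2⟩
  have key : ∀ e : ℚ, 0 < e → aeval z ((cyc s).comp (C e * X)) = 0 → (e : ℝ) * ‖z‖ = 1 := by
    intro e he h
    simp only [cyc, aeval_comp, map_mul, aeval_C, aeval_X, map_multiset_prod, Multiset.map_map] at h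
    obtain ⟨n, -, hn⟩ := Multiset.mem_map.mp (Multiset.prod_eq_zero_iff.mp h)
    simp only [Function.comp_apply, map_sub, map_pow, aeval_X, map_one, sub_eq_zero] at hn
    have := congrArg norm hn
    rw [norm_pow, norm_one, norm_mul] at this
    have he' : ‖algebraMap ℚ ℂ e‖ = (e : ℝ) := by
      simp [abs_of_pos he, he.le]
    rw [he'] at this
    exact (pow_eq_one_iff_of_nonneg (by positivity) (Nat.succ_ne_zero n)).mp this
  have hz1 := key c hc h1
  have hz2 := key d hd h2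
  have hz : (‖z‖ : ℝ) ≠ 0 := fun h => by rw [h, mul_zero] at hz1; exact zero_ne_one hz1
  exact hcd (by exact_mod_cast mul_right_cancel₀ hz (hz1.trans hz2.symm))

/-- A function satisfying a linear recurrence at the points `q^v` has no cyclotomic poles. -/
theorem cyc_dvd (q : ℚ) (hq : 1 < q) (P : ℚ[X]) (s : Multiset ℕ) (m N : ℕ) (b : ℕ → ℚ)
    (hb : ∃ i ≤ m, b i ≠ 0)
    (hrec : ∀ v, N ≤ v → ∑ i ∈ Finset.range (m + 1),
      b i * (P.eval (q ^ (v + i)) / (cyc s).eval (q ^ (v + i))) = 0)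
    (hN : 1 ≤ N) : cyc s ∣ P := by
  classical
  set D := cyc s with hD
  let Ψ : ℚ[X] := ∑ i ∈ Finset.range (m + 1), C (b i) * (P.comp (C (q ^ i) * X)) *
    ∏ k ∈ (Finset.range (m + 1)).erase i, D.comp (C (q ^ k) * X)
  have hq0 : 0 < q := by linarith
  have hΨ : Ψ = 0 := by
    apply eq_zero_of_infinite_isRoot
    refine Set.infinite_of_injective_forall_mem (f := fun v : ℕ => q ^ (N + v))
      (fun a b h => by have := pow_right_injective₀ hq0 hq.ne' h; omega) fun v => ?_
    set w := N + v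
    have hx : ∀ k, D.eval (q ^ (w + k)) ≠ 0 := fun k =>
      cyc_eval_ne_zero s (one_lt_pow₀ hq (by omega))
    show IsRoot Ψ (q ^ w)
    simp only [IsRoot, Ψ, eval_finsetSum, eval_mul, eval_C, eval_comp, eval_X, eval_prod,
      ← pow_add, add_comm _ w]
    have h0 := hrec w (by omega)
    have e : ∀ i ∈ Finset.range (m + 1), b i * P.eval (q ^ (w + i)) *
        ∏ k ∈ (Finset.range (m + 1)).erase i, D.eval (q ^ (w + k)) =
        (b i * (P.eval (q ^ (w + i)) / D.eval (q ^ (w + i)))) *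
          ∏ k ∈ Finset.range (m + 1), D.eval (q ^ (w + k)) := fun i hi => by
      rw [← Finset.mul_prod_erase _ _ hi]
      field_simp [hx i]
    rw [Finset.sum_congr rfl e, ← Finset.sum_mul, h0, zero_mul]
  obtain ⟨i, hi, hbi⟩ := hb
  have him : i ∈ Finset.range (m + 1) := Finset.mem_range.mpr (by omega)
  set Di := D.comp (C (q ^ i) * X) with hDi
  have hdvd : Di ∣ C (b i) * (P.comp (C (q ^ i) * X)) *
      ∏ k ∈ (Finset.range (m + 1)).erase i, D.comp (C (q ^ k) * X) := by
    have h2 := hΨ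
    simp only [Ψ] at h2
    rw [← Finset.add_sum_erase _ _ him, add_eq_zero_iff_eq_neg] at h2
    rw [h2]
    refine dvd_neg.mpr (Finset.dvd_sum fun k hk => Dvd.dvd.mul_left ?_ _)
    exact Finset.dvd_prod_of_mem (fun k => D.comp (C (q ^ k) * X))
      (Finset.mem_erase.mpr ⟨Ne.symm (Finset.mem_erase.mp hk).1, him⟩)
  have hcop : IsCoprime Di (∏ k ∈ (Finset.range (m + 1)).erase i, D.comp (C (q ^ k) * X)) := by
    refine IsCoprime.prod_right fun k hk => ?_
    exact isCoprime_scaled s _ _ (by positivity) (by positivity)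
      fun h => (Finset.mem_erase.mp hk).1 (pow_right_injective₀ hq0 hq.ne' h).symm
  have h1 : Di ∣ C (b i) * P.comp (C (q ^ i) * X) := hcop.dvd_of_dvd_mul_right hdvd
  rw [(isUnit_C.mpr (IsUnit.mk0 _ hbi)).dvd_mul_left, hDi] at h1
  obtain ⟨E, hE⟩ := h1
  refine ⟨E.comp (C (q ^ i)⁻¹ * X), ?_⟩
  have := congrArg (fun f => f.comp (C (q ^ i)⁻¹ * X)) hE
  simp only [mul_comp, comp_assoc, C_comp, X_comp] at this
  rwa [← mul_assoc, ← C_mul, mul_inv_cancel₀ (pow_ne_zero i hq0.ne'), C_1, one_mul, comp_X,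
    comp_X] at this

/-- Residues of logarithmic derivatives are integers. -/
theorem residues_int {ι : Type} [DecidableEq ι] (S : Finset ι) (c e : ι → ℚ) (hc : ∀ i ∈ S, c i ≠ 0)
    (hinj : Set.InjOn c S) (P Q : ℚ[X]) (hP : P ≠ 0) (hQ : Q ≠ 0)
    (h : (P.derivative * Q - P * Q.derivative) * ∏ i ∈ S, (1 - C (c i) * X) =
      P * Q * ∑ i ∈ S, C (e i * c i) * ∏ k ∈ S.erase i, (1 - C (c k) * X))
    {i : ι} (hi : i ∈ S) : ∃ z : ℤ, e i = z := by
  set a := (c i)⁻¹
  have hci := hc i hi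
  obtain ⟨P1, hP1, hP1a⟩ := P.exists_eq_pow_rootMultiplicity_mul_and_not_dvd hP a
  obtain ⟨Q1, hQ1, hQ1a⟩ := Q.exists_eq_pow_rootMultiplicity_mul_and_not_dvd hQ a
  set m := P.rootMultiplicity a
  set l := Q.rootMultiplicity a
  rw [dvd_iff_isRoot] at hP1a hQ1a
  set Pr := ∏ k ∈ S.erase i, (1 - C (c k) * X) with hPr
  have hPra : Pr.eval a ≠ 0 := by
    rw [hPr, eval_prod, Finset.prod_ne_zero_iff]
    intro k hk
    simp only [eval_sub, eval_one, eval_mul, eval_C, eval_X, sub_ne_zero]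
    intro h1
    have : c k = c i := by
      rw [show a = (c i)⁻¹ from rfl, ← div_eq_mul_inv, eq_div_iff hci, one_mul] at h1
      exact h1.symm
    exact (Finset.mem_erase.mp hk).1 (hinj (Finset.mem_erase.mp hk).2 hi this)
  have hlin : (1 - C (c i) * X : ℚ[X]) = (X - C a) * C (- c i) := by
    rw [sub_mul, ← C_mul, show a * -c i = -1 by simp [a, hci], map_neg, map_neg, C_1]; ring
  have hder : ∀ (R : ℚ[X]) (k : ℕ), (X - C a) * (((X - C a) ^ k * R).derivative) =
      (X - C a) ^ k * (C (k : ℚ) * R + (X - C a) * R.derivative) := by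
    intro R k
    rw [derivative_mul, derivative_pow, derivative_sub, derivative_X, derivative_C, sub_zero, mul_one]
    cases k with
    | zero => simp
    | succ k => simp only [Nat.add_sub_cancel, pow_succ]; ring
  rw [← Finset.mul_prod_erase _ _ hi, ← hPr, ← Finset.add_sum_erase _ _ hi, ← hPr, hlin] at h
  set Rest := ∑ k ∈ S.erase i, C (e k * c k) * ∏ k' ∈ S.erase k, (1 - C (c k') * X) with hRest
  have hRa : Rest.eval a = 0 := by
    rw [hRest, eval_finsetSum]
    refine Finset.sum_eq_zero fun k hk => ?_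
    rw [eval_mul, eval_prod, Finset.prod_eq_zero (i := i)
      (Finset.mem_erase.mpr ⟨Ne.symm (Finset.mem_erase.mp hk).1, hi⟩) (by simp [a, hci]), mul_zero]
  have h2 : (X - C a) ^ (m + l) * (((C (m : ℚ) * P1 + (X - C a) * P1.derivative) * Q1 -
      P1 * (C (l : ℚ) * Q1 + (X - C a) * Q1.derivative)) * (C (-c i) * Pr)) =
      (X - C a) ^ (m + l) * (P1 * Q1 * (C (e i * c i) * Pr + Rest)) := by
    rw [hP1, hQ1] at h
    have d1 := hder P1 m
    have d2 := hder Q1 l
    rw [pow_add]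
    linear_combination h - (X - C a) ^ l * Q1 * (C (-c i) * Pr) * d1 +
      (X - C a) ^ m * P1 * (C (-c i) * Pr) * d2
  have h3 := congrArg (eval a) (mul_left_cancel₀ (pow_ne_zero _ (X_sub_C_ne_zero a)) h2)
  simp only [eval_sub, eval_mul, eval_add, eval_C, eval_X, sub_self, zero_mul, add_zero, hRa] at h3
  refine ⟨(l : ℤ) - m, ?_⟩
  push_cast
  have hne : P1.eval a * Q1.eval a * c i * Pr.eval a ≠ 0 :=
    mul_ne_zero (mul_ne_zero (mul_ne_zero hP1a hQ1a) hci) hPra
  have h4 : (e i - ((l : ℚ) - m)) * (P1.eval a * Q1.eval a * c i * Pr.eval a) = 0 := by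
    linear_combination -h3
  rcases mul_eq_zero.mp h4 with h5 | h5
  · linarith
  · exact absurd h5 hne

theorem isLaurent_of_rational (q : ℤ) (hq : 1 < q) (F : RatFunc ℚ) (hF : Good F)
    (hrat : ∃ P Q : ℚ[X], Q ≠ 0 ∧
      (PowerSeries.exp ℚ).subst
          (PowerSeries.mk fun v : ℕ => if v = 0 then (0 : ℚ)
            else F.eval (RingHom.id ℚ) ((q : ℚ) ^ v) / (v : ℚ))
        * (Q : PowerSeries ℚ) = (P : PowerSeries ℚ)) :
    ∃ (P : ℤ[X]) (a : ℕ),
      F * RatFunc.X ^ a = algebraMap ℚ[X] (RatFunc ℚ) (P.map (Int.castRingHom ℚ)) := by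
  classical
  obtain ⟨P0, a, s, hP0⟩ := hF
  obtain ⟨P, Q, hQ, hZQ⟩ := hrat
  have hq' : (1 : ℚ) < q := by exact_mod_cast hq
  set H : ℕ → ℚ := fun v => F.eval (RingHom.id ℚ) ((q : ℚ) ^ v) with hH
  set G : PowerSeries ℚ := PowerSeries.mk fun v : ℕ => if v = 0 then (0 : ℚ) else H v / (v : ℚ) with hG
  have hs : PowerSeries.HasSubst G := PowerSeries.HasSubst.of_constantCoeff_zero' (by simp [hG])
  set Z := (PowerSeries.exp ℚ).subst G with hZ
  set G' : PowerSeries ℚ := PowerSeries.mk fun n => H (n + 1) with hG'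
  have hdG : PowerSeries.derivative ℚ G = G' := by
    ext n
    rw [PowerSeries.coeff_derivative, hG, hG', PowerSeries.coeff_mk, PowerSeries.coeff_mk,
      if_neg (Nat.succ_ne_zero n)]
    push_cast
    field_simp
  have hdZ : PowerSeries.derivative ℚ Z = Z * G' := by
    rw [hZ, PowerSeries.derivative_subst hs, PowerSeries.derivative_exp, hdG]
  have hid : ((P.derivative * Q - P * Q.derivative : ℚ[X]) : PowerSeries ℚ) =
      G' * ((P * Q : ℚ[X]) : PowerSeries ℚ) := by
    have hd := congrArg (PowerSeries.derivative ℚ) hZQ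
    rw [Derivation.leibniz, hdZ, PowerSeries.derivative_coe, PowerSeries.derivative_coe,
      smul_eq_mul, smul_eq_mul] at hd
    simp only [Polynomial.coe_sub, Polynomial.coe_mul]
    rw [← hd, ← hZQ]
    ring
  have hP : P ≠ 0 := by
    rintro rfl
    rw [Polynomial.coe_zero, mul_eq_zero, Polynomial.coe_eq_zero_iff] at hZQ
    rcases hZQ with h | h
    · have h1 : PowerSeries.constantCoeff Z = 1 := by
        rw [hZ]
        have := PowerSeries.constantCoeff_subst (a := G) hs (PowerSeries.exp ℚ)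
        rw [finsum_eq_single _ 0] at this
        · simp at this
          exact this
        · intro d hd
          have : MvPowerSeries.constantCoeff (G ^ d) = 0 := by
            rw [map_pow, show MvPowerSeries.constantCoeff G = 0 from by
              show PowerSeries.constantCoeff G = 0; simp [hG], zero_pow hd]
          simp [this]
      rw [h, map_zero] at h1
      exact zero_ne_one h1
    · exact hQ h
  set B := P * Q with hB
  have hB0 : B ≠ 0 := mul_ne_zero hP hQ
  set W := P.derivative * Q - P * Q.derivative with hW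
  set m := B.natDegree
  set T := max m (W.natDegree + 1)
  have hrec : ∀ n, T ≤ n → ∑ j ∈ Finset.range (m + 1), B.coeff j * H (n - j + 1) = 0 := by
    intro n hn
    have h1 := congrArg (PowerSeries.coeff n) hid
    rw [Polynomial.coeff_coe, coeff_eq_zero_of_natDegree_lt (by omega), mul_comm,
      PowerSeries.coeff_mul, Finset.Nat.sum_antidiagonal_eq_sum_range_succ_mk] at h1
    rw [h1]
    refine Finset.sum_subset_zero_on_sdiff (by intro x; simp; omega) (fun x hx => ?_) fun x hx => ?_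
    · simp at hx
      rw [Polynomial.coeff_coe, coeff_eq_zero_of_natDegree_lt (by omega), zero_mul]
    · simp [hG']
  have hD : ∀ v, 1 ≤ v → H v = P0.eval ((q : ℚ) ^ v) / ((q : ℚ) ^ v) ^ a / (cyc s).eval ((q : ℚ) ^ v) := by
    intro v hv
    have hx : (1 : ℚ) < (q : ℚ) ^ v := one_lt_pow₀ hq' (by omega)
    have h0 : (cyc s).eval ((q : ℚ) ^ v) ≠ 0 := cyc_eval_ne_zero s hx
    have h1 : ((q : ℚ) ^ v) ^ a ≠ 0 := pow_ne_zero _ (by linarith)
    have := eval_eq hP0 (x := (q : ℚ) ^ v) (by rw [eval_mul, eval_pow, eval_X]; exact mul_ne_zero h1 h0)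
    rw [eval_mul, eval_pow, eval_X] at this
    rw [hH, ← this]
    field_simp
  have hdvd : cyc s ∣ P0 := by
    refine cyc_dvd (q : ℚ) hq' P0 s m (T + 1)
      (fun i => B.coeff (m - i) * ((((q : ℚ) ^ i) ^ a)⁻¹)) ⟨0, Nat.zero_le _, ?_⟩ ?_ (by omega)
    · simp only [Nat.sub_zero, pow_zero, one_pow, inv_one, mul_one]
      exact Polynomial.leadingCoeff_ne_zero.mpr hB0
    · intro v hv
      have h1 := hrec (v + m - 1) (by omega)
      rw [← Finset.sum_range_reflect] at h1
      have h2 : (((q : ℚ) ^ v) ^ a)⁻¹ ≠ 0 := inv_ne_zero (pow_ne_zero _ (pow_ne_zero _ (by linarith)))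
      refine (mul_eq_zero.mp ?_).resolve_left h2
      rw [Finset.mul_sum, ← h1]
      refine Finset.sum_congr rfl fun i hi => ?_
      rw [Finset.mem_range] at hi
      rw [show m + 1 - 1 - i = m - i by omega, show v + m - 1 - (m - i) + 1 = v + i by omega,
        hD (v + i) (by omega), pow_add, mul_pow]
      field_simp
  obtain ⟨E, hE⟩ := hdvd
  have hFE : F * RatFunc.X ^ a = algebraMap ℚ[X] (RatFunc ℚ) E := by
    have h := hP0
    rw [hE, map_mul, map_mul, map_pow, RatFunc.algebraMap_X, ← mul_assoc, mul_comm (algebraMap _ _ (cyc s))] at h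
    exact mul_right_cancel₀ (RatFunc.algebraMap_ne_zero (cyc_ne_zero s)) h
  set c : ℕ → ℚ := fun i => (q : ℚ) ^ i / (q : ℚ) ^ a with hc
  set S := Finset.range (E.natDegree + 1)
  have hq0 : (q : ℚ) ≠ 0 := by linarith
  have hH' : ∀ v, 1 ≤ v → H v = ∑ i ∈ S, E.coeff i * c i ^ v := by
    intro v hv
    have h := eval_eq (F := F) (P := E) (D := X ^ a) (x := (q : ℚ) ^ v)
      (by rw [map_pow, RatFunc.algebraMap_X]; exact hFE)
      (by rw [eval_pow, eval_X]; exact pow_ne_zero _ (pow_ne_zero _ hq0))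
    rw [eval_pow, eval_X, eval_eq_sum_range] at h
    have h' : H v = (∑ i ∈ S, E.coeff i * ((q : ℚ) ^ v) ^ i) / ((q : ℚ) ^ v) ^ a := by
      rw [eq_div_iff (pow_ne_zero _ (pow_ne_zero _ hq0))]
      exact h
    rw [h', Finset.sum_div]
    refine Finset.sum_congr rfl fun i _ => ?_
    rw [hc, div_pow, ← pow_mul, ← pow_mul, ← pow_mul, ← pow_mul, mul_comm v i, mul_comm v a,
      mul_div_assoc]
  have hgeo : ∀ i, (PowerSeries.mk fun n => c i ^ (n + 1)) *
      ((1 - C (c i) * X : ℚ[X]) : PowerSeries ℚ) = PowerSeries.C (c i) := by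
    intro i
    simp only [Polynomial.coe_sub, Polynomial.coe_one, Polynomial.coe_mul, Polynomial.coe_C, Polynomial.coe_X]
    ext n
    cases n with
    | zero => simp
    | succ n =>
      rw [mul_sub, mul_one, map_sub, ← mul_assoc, PowerSeries.coeff_succ_mul_X,
        PowerSeries.coeff_mul_C, PowerSeries.coeff_mk, PowerSeries.coeff_mk, PowerSeries.coeff_C,
        if_neg (Nat.succ_ne_zero n)]
      ring
  have hG'sum : G' = ∑ i ∈ S, PowerSeries.C (E.coeff i) * PowerSeries.mk (fun n => c i ^ (n + 1)) := by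
    ext n
    rw [map_sum, hG', PowerSeries.coeff_mk, hH' (n + 1) (by omega)]
    exact Finset.sum_congr rfl fun i _ => by rw [PowerSeries.coeff_C_mul, PowerSeries.coeff_mk]
  have hpoly : W * ∏ i ∈ S, (1 - C (c i) * X) =
      P * Q * ∑ i ∈ S, C (E.coeff i * c i) * ∏ k ∈ S.erase i, (1 - C (c k) * X) := by
    apply Polynomial.coe_injective ℚ
    rw [Polynomial.coe_mul, hid, Polynomial.coe_mul (P * Q)]
    rw [mul_comm G', mul_assoc]
    congr 1
    rw [← Polynomial.coeToPowerSeries.ringHom_apply, ← Polynomial.coeToPowerSeries.ringHom_apply,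
      map_sum, hG'sum, Finset.sum_mul]
    refine Finset.sum_congr rfl fun i hi => ?_
    rw [← Finset.mul_prod_erase _ _ hi, map_mul, map_mul, Polynomial.coeToPowerSeries.ringHom_apply,
      Polynomial.coeToPowerSeries.ringHom_apply (φ := C _), Polynomial.coe_C, mul_assoc,
      ← mul_assoc (PowerSeries.mk _), hgeo i, ← mul_assoc, ← map_mul]
  have hint : ∀ i, ∃ z : ℤ, E.coeff i = z := by
    intro i
    by_cases hi : i ∈ S
    · refine residues_int S c (fun i => E.coeff i) (fun j _ => div_ne_zero (pow_ne_zero _ hq0) (pow_ne_zero _ hq0))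
        (fun j _ k _ h => ?_) P Q hP hQ hpoly hi
      exact pow_right_injective₀ (by linarith : (0:ℚ) < q) hq'.ne'
        ((div_left_inj' (pow_ne_zero a hq0)).mp h)
    · refine ⟨0, ?_⟩
      rw [coeff_eq_zero_of_natDegree_lt (by simpa [S] using hi), Int.cast_zero]
  obtain ⟨E', hE'⟩ := (Polynomial.mem_map_range (Int.castRingHom ℚ) (p := E)).mpr
    fun i => by obtain ⟨z, hz⟩ := hint i; exact ⟨z, hz.symm⟩
  exact ⟨E', a, by rw [hFE, ← hE']; rfl⟩

end ExpSum97
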